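import Groth.Agent.GaSectLib.Primitive
import Groth.Agent.GrpSchLib.GaPts
import Groth.Prelude.Def_AlgGrp
import Mathlib.AlgebraicGeometry.Morphisms.Descent
import Mathlib.AlgebraicGeometry.Morphisms.Flat
import Mathlib.AlgebraicGeometry.Sites.Fpqc

set_option linter.unusedSectionVars false

/-!
# Torsors under the additive group over affine schemes are trivial
-/

set_option autoImplicit false
set_option linter.style.haveILetI false

universe u

open CategoryTheory MonoidalCategory CartesianMonoidalCategory MonObj AlgebraicGeometry CategoryTheory.Limits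

namespace Groth.Agent.GaSectLib

open Groth.Agent.GrpSchLib

variable {S : Scheme.{u}} {G Q : Over S} [GrpObj G] [GrpObj Q] {q : G ⟶ Q} [IsMonHom q]

theorem gaFn_inv {T : Over S} (x : T ⟶ Red.Ga S) : Red.gaFn x⁻¹ = -Red.gaFn x := by
  refine eq_neg_of_add_eq_zero_left ?_
  rw [← GaPts.gaFn_mul, inv_mul_cancel, GaPts.gaFn_one]

variable {N : Over S} [GrpObj N] {i : N ⟶ G}

theorem mono_kernel (hker : AlgGrp.IsKernel i q) : Mono i :=
  ⟨fun _ _ e => hker.hom_ext e (toUnit_unique _ _)⟩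

theorem comp_eq_one (hker : AlgGrp.IsKernel i q) {T : Over S} (t : T ⟶ N) : (t ≫ i) ≫ q = 1 := by
  rw [Category.assoc, hker.w, ← Category.assoc, Hom.one_def]
  congr 1
  exact toUnit_unique _ _

theorem exists_diff (hker : AlgGrp.IsKernel i q) {T : Over S} (x y : T ⟶ G) (h : x ≫ q = y ≫ q) :
    ∃ t : T ⟶ N, t ≫ i = x⁻¹ * y := by
  have h1 : (x⁻¹ * y) ≫ q = 1 := by rw [MonObj.mul_comp, GrpObj.inv_comp, h, inv_mul_cancel]
  exact ⟨hker.lift (x⁻¹ * y) (toUnit T) (by rw [h1, Hom.one_def]), hker.lift_fst _ _ _⟩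

set_option backward.isDefEq.respectTransparency false in
set_option backward.isDefEq.respectTransparency.types false in
set_option synthInstance.maxHeartbeats 100000 in
/-- Over an affine scheme a lifting through a quotient by the additive group exists. -/
theorem exists_section {i : Red.Ga S ⟶ G} [IsMonHom i] (hker : AlgGrp.IsKernel i q)
    [Flat q.left] [Surjective q.left] [QuasiCompact q.left] {H : Over S} [IsAffine H.left] (v : H ⟶ Q) :
    ∃ σ : H ⟶ G, σ ≫ q = v := by
  classical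
  haveI := mono_kernel hker
  haveI : CompactSpace ↥(pullback q.left v.left) :=
    QuasiCompact.compactSpace_of_compactSpace (pullback.snd q.left v.left)
  obtain ⟨W, p, hsurj, hflat, hW⟩ :=
    Scheme.exists_hom_isAffine_of_isZariskiLocalAtSource (P := @Flat) (pullback q.left v.left)
  let E : Over S := Over.mk ((p ≫ pullback.snd q.left v.left) ≫ H.hom)
  let π : E ⟶ H := Over.homMk (p ≫ pullback.snd q.left v.left) rfl
  have hw0 : (p ≫ pullback.fst q.left v.left) ≫ G.hom = E.hom := by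
    show _ = (p ≫ pullback.snd q.left v.left) ≫ H.hom
    rw [← Over.w q, ← Over.w v]
    simp only [Category.assoc, pullback.condition_assoc]
  let w : E ⟶ G := Over.homMk (p ≫ pullback.fst q.left v.left) hw0
  have hwq : w ≫ q = π ≫ v := Over.OverMorphism.ext (by
    show (p ≫ _) ≫ q.left = (p ≫ _) ≫ v.left
    rw [Category.assoc, Category.assoc, pullback.condition])
  haveI : IsAffine E.left := hW
  haveI : Surjective π.left := inferInstanceAs (Surjective (p ≫ pullback.snd q.left v.left))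
  haveI : Flat π.left := inferInstanceAs (Flat (p ≫ pullback.snd q.left v.left))
  haveI : QuasiCompact π.left := inferInstanceAs (QuasiCompact (p ≫ pullback.snd q.left v.left))
  have hdiff : ∀ (T : Over S) (x y : T ⟶ E), x ≫ π = y ≫ π → ∃ t : T ⟶ Red.Ga S, t ≫ i = (x ≫ w)⁻¹ * (y ≫ w) :=
    fun T x y h => exists_diff hker _ _ (by rw [Category.assoc, Category.assoc, hwq, ← Category.assoc, h, Category.assoc])
  let d : ∀ T : Over S, (T ⟶ E) → (T ⟶ E) → (T ⟶ Red.Ga S) :=
    fun T x y => if h : x ≫ π = y ≫ π then (hdiff T x y h).choose else 1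
  have hd : ∀ (T : Over S) (x y : T ⟶ E), x ≫ π = y ≫ π → d T x y ≫ i = (x ≫ w)⁻¹ * (y ≫ w) :=
    fun T x y h => by simp only [d, dif_pos h]; exact (hdiff T x y h).choose_spec
  obtain ⟨a, ha⟩ := exists_primitive π (fun T x y => Red.gaFn (d T x y))
    (fun T T' g x y h => by
      rw [← GaPts.gaFn_comp]
      refine congrArg Red.gaFn ?_
      rw [← cancel_mono i, Category.assoc, hd _ _ _ h, hd _ _ _ (by simp only [Category.assoc, h]), MonObj.comp_mul,
        GrpObj.comp_inv, Category.assoc, Category.assoc])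
    (fun T x y z h h' => by
      rw [← GaPts.gaFn_mul]
      refine congrArg Red.gaFn ?_
      rw [← cancel_mono i, MonObj.mul_comp, hd _ _ _ h, hd _ _ _ h', hd _ _ _ (h.trans h')]
      group)
  let ρ : E ⟶ Red.Ga S := GaPts.ptOfFn a
  have hρ : ∀ (T : Over S) (x y : T ⟶ E), x ≫ π = y ≫ π → d T x y = (x ≫ ρ)⁻¹ * (y ≫ ρ) := fun T x y h => by
    apply GaPts.gaFn_injective
    show Red.gaFn (d T x y) = Red.gaFn ((x ≫ ρ)⁻¹ * (y ≫ ρ))
    rw [GaPts.gaFn_mul, gaFn_inv, GaPts.gaFn_comp, GaPts.gaFn_comp, GaPts.gaFn_ptOfFn, ha T x y h]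
    exact sub_eq_neg_add _ _
  let e₀ : E ⟶ G := w * (ρ ≫ i)⁻¹
  have he : e₀ ≫ q = π ≫ v := by
    rw [MonObj.mul_comp, GrpObj.inv_comp, comp_eq_one hker, inv_one, _root_.mul_one, hwq]
  have hinv : ∀ (T : Over S) (x y : T ⟶ E), x ≫ π = y ≫ π → x ≫ e₀ = y ≫ e₀ := by
    intro T x y h
    have h1 := hd T x y h
    rw [hρ T x y h, MonObj.mul_comp, GrpObj.inv_comp, Category.assoc, Category.assoc] at h1
    rw [MonObj.comp_mul, MonObj.comp_mul, GrpObj.comp_inv, GrpObj.comp_inv, eq_mul_inv_iff_mul_eq]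
    calc (x ≫ w) * (x ≫ ρ ≫ i)⁻¹ * (y ≫ ρ ≫ i) = (x ≫ w) * ((x ≫ ρ ≫ i)⁻¹ * (y ≫ ρ ≫ i)) := mul_assoc _ _ _
      _ = y ≫ w := by rw [h1, mul_inv_cancel_left]
  have hdesc : ∀ {Z : Scheme.{u}} (g₁ g₂ : Z ⟶ E.left), g₁ ≫ π.left = g₂ ≫ π.left → g₁ ≫ e₀.left = g₂ ≫ e₀.left := by
    intro Z g₁ g₂ h
    have hw : g₂ ≫ E.hom = g₁ ≫ E.hom := by
      rw [← Over.w π, ← Category.assoc, ← h, Category.assoc]
    exact congrArg CommaMorphism.left (hinv (Over.mk (g₁ ≫ E.hom)) (Over.homMk g₁ rfl) (Over.homMk g₂ hw)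
      (Over.OverMorphism.ext h))
  let s : H.left ⟶ G.left := EffectiveEpi.desc π.left e₀.left hdesc
  have hs : π.left ≫ s = e₀.left := EffectiveEpi.fac π.left e₀.left hdesc
  have hsw : s ≫ G.hom = H.hom := by
    rw [← cancel_epi π.left, ← Category.assoc, hs, Over.w e₀, Over.w π]
  refine ⟨Over.homMk s hsw, Over.OverMorphism.ext ?_⟩
  rw [← cancel_epi π.left, Over.comp_left]
  show π.left ≫ s ≫ q.left = _
  rw [← Category.assoc, hs]
  exact congrArg CommaMorphism.left he

end Groth.Agent.GaSectLib
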