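import Groth.Agent.DescLib.Amitsur
import Mathlib.AlgebraicGeometry.Sites.Fpqc
import Mathlib.AlgebraicGeometry.Morphisms.Flat
import Mathlib.RingTheory.RingHom.FaithfullyFlat
import Mathlib.CategoryTheory.Monoidal.Cartesian.Over

/-!
# Additive cocycles along a faithfully flat morphism of affine schemes are coboundaries
-/

set_option autoImplicit false

universe u

open CategoryTheory MonoidalCategory CartesianMonoidalCategory AlgebraicGeometry CategoryTheory.Limits

namespace Groth.Agent.GaSectLib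

set_option maxHeartbeats 800000 in
open TensorProduct in
/-- Additive cocycles on `E ×_H E` are coboundaries. -/
theorem exists_primitive {K : Scheme.{u}} {E H : Over K} [IsAffine E.left] [IsAffine H.left] (π : E ⟶ H) [Surjective π.left] [Flat π.left]
    (δ : ∀ T : Over K, (T ⟶ E) → (T ⟶ E) → Γ(T.left, ⊤))
    (hnat : ∀ (T T' : Over K) (g : T' ⟶ T) (x y : T ⟶ E), x ≫ π = y ≫ π →
      δ T' (g ≫ x) (g ≫ y) = g.left.appTop (δ T x y))
    (hcoc : ∀ (T : Over K) (x y z : T ⟶ E), x ≫ π = y ≫ π → y ≫ π = z ≫ π → δ T x z = δ T x y + δ T y z) :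
    ∃ a : Γ(E.left, ⊤), ∀ (T : Over K) (x y : T ⟶ E), x ≫ π = y ≫ π →
      δ T x y = y.left.appTop a - x.left.appTop a := by
  let B : Type u := Γ(H.left, ⊤)
  let A : Type u := Γ(E.left, ⊤)
  letI alg : Algebra B A := π.left.appTop.hom.toAlgebra
  haveI : Module.FaithfullyFlat B A := by
    have : π.left.appTop.hom.FaithfullyFlat := by
      rw [RingHom.FaithfullyFlat.iff_flat_and_comap_surjective]
      refine ⟨HasRingHomProperty.appTop (P := @Flat) π.left ‹_›, ?_⟩
      haveI : Surjective (E.left.isoSpec.hom ≫ Spec.map π.left.appTop) := by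
        rw [Scheme.isoSpec_hom_naturality]; infer_instance
      exact (Surjective.of_comp E.left.isoSpec.hom (Spec.map π.left.appTop)).surj
    exact this
  let sT : ∀ (U : Type u) [CommRing U] [Algebra B U], Over K := fun U _ _ =>
    Over.mk (Spec.map (CommRingCat.ofHom (algebraMap B U)) ≫ H.left.isoSpec.inv ≫ H.hom)
  let base : ∀ (U : Type u) [CommRing U] [Algebra B U], sT U ⟶ H := fun U _ _ =>
    Over.homMk (Spec.map (CommRingCat.ofHom (algebraMap B U)) ≫ H.left.isoSpec.inv) (Category.assoc _ _ _)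
  have hq : ∀ (U : Type u) [CommRing U] [Algebra B U] (φ : A →ₐ[B] U),
      (Spec.map (CommRingCat.ofHom φ.toRingHom) ≫ E.left.isoSpec.inv) ≫ π.left =
        Spec.map (CommRingCat.ofHom (algebraMap B U)) ≫ H.left.isoSpec.inv := by
    intro U _ _ φ
    rw [Category.assoc, ← Scheme.isoSpec_inv_naturality, ← Category.assoc, ← Spec.map_comp]
    congr 2
    exact CommRingCat.hom_ext (RingHom.ext fun b => φ.commutes b)
  let pt : ∀ (U : Type u) [CommRing U] [Algebra B U], (A →ₐ[B] U) → (sT U ⟶ E) := fun U _ _ φ =>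
    Over.homMk (Spec.map (CommRingCat.ofHom φ.toRingHom) ≫ E.left.isoSpec.inv) (by
      rw [← Over.w π, ← Category.assoc, hq U φ, Category.assoc]; rfl)
  have hptπ : ∀ (U : Type u) [CommRing U] [Algebra B U] (φ : A →ₐ[B] U), pt U φ ≫ π = base U := fun U _ _ φ =>
    Over.OverMorphism.ext (hq U φ)
  let mor : ∀ {U U' : Type u} [CommRing U] [Algebra B U] [CommRing U'] [Algebra B U'], (U →ₐ[B] U') →
      (sT U' ⟶ sT U) := fun {U U'} _ _ _ _ ψ =>
    Over.homMk (Spec.map (CommRingCat.ofHom ψ.toRingHom)) (by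
      show _ ≫ Spec.map _ ≫ _ = Spec.map _ ≫ _
      rw [← Category.assoc, ← Spec.map_comp]
      congr 2
      exact CommRingCat.hom_ext (RingHom.ext fun b => ψ.commutes b))
  have hmor : ∀ {U U' : Type u} [CommRing U] [Algebra B U] [CommRing U'] [Algebra B U'] (ψ : U →ₐ[B] U')
      (φ : A →ₐ[B] U), mor ψ ≫ pt U φ = pt U' (ψ.comp φ) := fun {U U'} _ _ _ _ ψ φ =>
    Over.OverMorphism.ext (by
      show Spec.map _ ≫ Spec.map _ ≫ _ = Spec.map _ ≫ _
      rw [← Category.assoc, ← Spec.map_comp]; rfl)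
  let e : ∀ (U : Type u) [CommRing U] [Algebra B U], Γ((sT U).left, ⊤) →+* U := fun U _ _ =>
    (Scheme.ΓSpecIso (CommRingCat.of U)).hom.hom
  have hnatE : ∀ {U U' : Type u} [CommRing U] [Algebra B U] [CommRing U'] [Algebra B U'] (ψ : U →ₐ[B] U')
      (z : Γ((sT U).left, ⊤)), e U' ((mor ψ).left.appTop z) = ψ (e U z) := fun {U U'} _ _ _ _ ψ z =>
    ConcreteCategory.congr_hom (Scheme.ΓSpecIso_naturality (CommRingCat.ofHom ψ.toRingHom)) z
  have hev : ∀ (U : Type u) [CommRing U] [Algebra B U] (φ : A →ₐ[B] U) (a : A),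
      e U ((pt U φ).left.appTop a) = φ a := fun U _ _ φ a => by
    have h1 : e U ((Spec.map (CommRingCat.ofHom φ.toRingHom)).appTop (E.left.isoSpec.inv.appTop a)) =
        φ ((Scheme.ΓSpecIso Γ(E.left, ⊤)).hom (E.left.isoSpec.inv.appTop a)) :=
      ConcreteCategory.congr_hom (Scheme.ΓSpecIso_naturality (CommRingCat.ofHom φ.toRingHom)) _
    have h2 : (Scheme.ΓSpecIso Γ(E.left, ⊤)).hom (E.left.isoSpec.inv.appTop a) = a := by
      have h3 : E.left.isoSpec.inv.appTop ≫ E.left.isoSpec.hom.appTop = 𝟙 _ := by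
        rw [← Scheme.Hom.comp_appTop, Iso.hom_inv_id]; rfl
      have h4 := ConcreteCategory.congr_hom h3 a
      rw [Scheme.isoSpec_hom, Scheme.toSpecΓ_appTop] at h4
      exact h4
    rw [h2] at h1
    exact h1
  let L : A →ₐ[B] A ⊗[B] A := Algebra.TensorProduct.includeLeft
  let R' : A →ₐ[B] A ⊗[B] A := Algebra.TensorProduct.includeRight
  let f23 : A ⊗[B] A →ₐ[B] A ⊗[B] (A ⊗[B] A) := Algebra.TensorProduct.includeRight
  let f13 : A ⊗[B] A →ₐ[B] A ⊗[B] (A ⊗[B] A) := Algebra.TensorProduct.map (AlgHom.id B A) R'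
  let f12 : A ⊗[B] A →ₐ[B] A ⊗[B] (A ⊗[B] A) := Algebra.TensorProduct.map (AlgHom.id B A) L
  have c1 : f12.comp L = f13.comp L := AlgHom.ext fun a => by
    simp [f12, f13, L, R', Algebra.TensorProduct.one_def]
  have c2 : f12.comp R' = f23.comp L := AlgHom.ext fun a => by simp [f12, f23, L, R']
  have c3 : f13.comp R' = f23.comp R' := AlgHom.ext fun a => by simp [f13, f23, R']
  have hmap : ∀ x, f23 x = Algebra.TensorProduct.includeRight x ∧ f13 x = Algebra.TensorProduct.map (AlgHom.id B A) Algebra.TensorProduct.includeRight x ∧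
      f12 x = Algebra.TensorProduct.map (AlgHom.id B A) Algebra.TensorProduct.includeLeft x := fun x => ⟨rfl, rfl, rfl⟩
  have hL : ∀ r : A, L r = r ⊗ₜ 1 := fun r => rfl
  have hR' : ∀ r : A, R' r = 1 ⊗ₜ r := fun r => rfl
  clear_value L R' f23 f13 f12
  set d : A ⊗[B] A := e _ (δ (sT (A ⊗[B] A)) (pt _ L) (pt _ R')) with hd
  have hpair : pt (A ⊗[B] A) L ≫ π = pt _ R' ≫ π := (hptπ _ _).trans (hptπ _ _).symm
  have hpush : ∀ (f : A ⊗[B] A →ₐ[B] A ⊗[B] (A ⊗[B] A)),
      e _ (δ _ (pt _ (f.comp L)) (pt _ (f.comp R'))) = f d := fun f =>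
    (congrArg (e _) ((congrArg₂ (δ _) (hmor f L).symm (hmor f R').symm).trans (hnat _ _ _ _ _ hpair))).trans (hnatE f _)
  let P : (A →ₐ[B] A ⊗[B] (A ⊗[B] A)) → (A →ₐ[B] A ⊗[B] (A ⊗[B] A)) → A ⊗[B] (A ⊗[B] A) :=
    fun φ φ' => e _ (δ _ (pt _ φ) (pt _ φ'))
  have hP : P (f13.comp L) (f23.comp R') = P (f13.comp L) (f23.comp L) + P (f23.comp L) (f23.comp R') :=
    (congrArg (e _) (hcoc _ (pt _ (f13.comp L)) (pt _ (f23.comp L)) (pt _ (f23.comp R'))
      ((hptπ _ _).trans (hptπ _ _).symm) ((hptπ _ _).trans (hptπ _ _).symm))).trans (map_add _ _ _)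
  have h23 : f23 d = P (f23.comp L) (f23.comp R') := (hpush f23).symm
  have h13 : f13 d = P (f13.comp L) (f23.comp R') := (hpush f13).symm.trans (congrArg (P _) c3)
  have h12 : f12 d = P (f13.comp L) (f23.comp L) := (hpush f12).symm.trans (congrArg₂ P c1 c2)
  clear_value P
  have hz : f23 d - f13 d + f12 d = 0 := by
    rw [h23, h13, h12, hP]
    abel
  obtain ⟨x, hx⟩ := (Groth.Agent.DescLib.amitsur_degree_one (R := B) (A := A) B ((1 : B) ⊗ₜ d)).1 (by
    simp only [LinearMap.add_apply, LinearMap.sub_apply, LinearMap.lTensor_tmul, AlgHom.toLinearMap_apply]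
    rw [← TensorProduct.tmul_sub, ← TensorProduct.tmul_add, ← (hmap d).1, ← (hmap d).2.1, ← (hmap d).2.2, hz, TensorProduct.tmul_zero])
  have ha : d = R' (TensorProduct.lid B A x) - L (TensorProduct.lid B A x) := by
    obtain ⟨a, rfl⟩ : ∃ a : A, (1 : B) ⊗ₜ[B] a = x := ⟨TensorProduct.lid B A x, (TensorProduct.lid B A).symm_apply_apply x⟩
    have := congrArg (TensorProduct.lid B (A ⊗[B] A)) hx
    simp only [LinearMap.sub_apply, LinearMap.lTensor_tmul, map_sub, TensorProduct.lid_tmul, one_smul] at this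
    rw [TensorProduct.lid_tmul, one_smul, hR', hL]
    simpa using this.symm
  refine ⟨TensorProduct.lid B A x, fun T x' y hxy => ?_⟩
  generalize TensorProduct.lid B A x = a at ha
  letI : Algebra B Γ(T.left, ⊤) := (x' ≫ π).left.appTop.hom.toAlgebra
  let φx : A →ₐ[B] Γ(T.left, ⊤) := ⟨x'.left.appTop.hom, fun b => rfl⟩
  let φy : A →ₐ[B] Γ(T.left, ⊤) := ⟨y.left.appTop.hom, fun b => by
    show (y ≫ π).left.appTop b = (x' ≫ π).left.appTop b
    rw [hxy]⟩
  let ψ : A ⊗[B] A →ₐ[B] Γ(T.left, ⊤) := Algebra.TensorProduct.lift φx φy fun _ _ => Commute.all _ _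
  have hψL : ψ.comp L = φx := AlgHom.ext fun r => by simp [ψ, hL]
  have hψR : ψ.comp R' = φy := AlgHom.ext fun r => by simp [ψ, hR']
  let g : T ⟶ sT (A ⊗[B] A) := Over.homMk (T.left.toSpecΓ ≫ Spec.map (CommRingCat.ofHom ψ.toRingHom)) (by
    show _ ≫ Spec.map _ ≫ _ = T.hom
    rw [Category.assoc, ← Category.assoc (Spec.map _) (Spec.map _), ← Spec.map_comp,
      show CommRingCat.ofHom (algebraMap B (A ⊗[B] A)) ≫ CommRingCat.ofHom ψ.toRingHom = (x' ≫ π).left.appTop from
        CommRingCat.hom_ext (RingHom.ext fun b => ψ.commutes b),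
      ← Category.assoc, ← Scheme.toSpecΓ_naturality, Category.assoc, ← Scheme.isoSpec_hom,
      Iso.hom_inv_id_assoc, Over.w])
  have hg : ∀ (φ : A →ₐ[B] A ⊗[B] A) (z : T ⟶ E), (ψ.comp φ).toRingHom = z.left.appTop.hom → g ≫ pt _ φ = z := by
    intro φ z hz
    refine Over.OverMorphism.ext ?_
    show (_ ≫ Spec.map _) ≫ Spec.map _ ≫ _ = _
    rw [Category.assoc, ← Category.assoc (Spec.map _) (Spec.map _), ← Spec.map_comp,
      show CommRingCat.ofHom φ.toRingHom ≫ CommRingCat.ofHom ψ.toRingHom = z.left.appTop from CommRingCat.hom_ext hz,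
      ← Category.assoc, ← Scheme.toSpecΓ_naturality, Category.assoc, ← Scheme.isoSpec_hom, Iso.hom_inv_id,
      Category.comp_id]
  have hgL := hg L x' (congrArg AlgHom.toRingHom hψL)
  have hgR := hg R' y (congrArg AlgHom.toRingHom hψR)
  have einj : Function.Injective (e (A ⊗[B] A)) :=
    (ConcreteCategory.bijective_of_isIso (Scheme.ΓSpecIso (CommRingCat.of (A ⊗[B] A))).hom).1
  have hu : δ _ (pt _ L) (pt _ R') = (pt _ R').left.appTop a - (pt _ L).left.appTop a :=
    einj (by rw [map_sub, hev, hev, ← hd, ha])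
  rw [← hgL, ← hgR, hnat _ _ _ _ _ hpair, hu, map_sub]
  rfl

end Groth.Agent.GaSectLib
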